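import Groth.Agent.Lib.ExtShriek24.PushComm
import Groth.Agent.Lib.EtStalk.IntegralBC

/-!
# Integral direct images commute with extension by zero along open immersions
-/

universe u

set_option maxHeartbeats 400000

open CategoryTheory CategoryTheory.Limits AlgebraicGeometry Opposite
open Groth.Agent.EtStalk Groth.Agent.ExtShriek24

namespace Groth.Agent.CdP3

variable {U X V Y : Scheme.{u}} (f : X ⟶ Y) [IsIntegralHom f] (j : V ⟶ Y) [IsOpenImmersion j]
  (j' : U ⟶ X) [IsOpenImmersion j'] (g : U ⟶ V) (h : IsPullback j' g f j) (F : EtCoh.Ab U)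

include h in
theorem isZero_stalk_push_extZero_integral {Ω : Type u} [Field Ω] [IsSepClosed Ω]
    (ξ : Spec (CommRingCat.of Ω) ⟶ Y) (hξ : ξ default ∉ Set.range j) :
    IsZero ((EtCoh.stalk ξ).obj ((EtCoh.push f).obj ((EtShriek.extZero j').obj F))) := by
  let a : Spec (CommRingCat.of (AlgebraicClosure Ω)) ⟶ Spec (CommRingCat.of Ω) :=
    Spec.map (CommRingCat.ofHom (algebraMap Ω (AlgebraicClosure Ω)))
  have hb := LocConst24.bijective_stalkRes a ξ ((EtCoh.push f).obj ((EtShriek.extZero j').obj F))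
  have hsub : Subsingleton ((EtCoh.stalk (a ≫ ξ)).obj
      ((EtCoh.push f).obj ((EtShriek.extZero j').obj F))) := by
    haveI : ∀ l : fLifts f (a ≫ ξ),
        Subsingleton ((EtCoh.stalk l.1).obj ((EtShriek.extZero j').obj F)) := fun l =>
      AddCommGrpCat.subsingleton_of_isZero (stalk_extZero_isZero j' F l.1 fun ⟨z, hz⟩ => hξ ⟨g z, by
        rw [← Scheme.Hom.comp_apply, ← h.w, Scheme.Hom.comp_apply, hz, ← Scheme.Hom.comp_apply, l.2]
        exact congrArg ξ (Subsingleton.elim (α := PrimeSpectrum Ω) _ _)⟩)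
    exact ⟨fun p q => injective_liftStalk f (a ≫ ξ) _ (funext fun l => Subsingleton.elim _ _)⟩
  haveI : Subsingleton ((EtCoh.stalk ξ).obj ((EtCoh.push f).obj ((EtShriek.extZero j').obj F))) :=
    ⟨fun p q => hb.1 (hsub.elim _ _)⟩
  exact AddCommGrpCat.isZero_of_subsingleton _

include h in
theorem nonempty_push_extZero_iso_integral :
    Nonempty ((EtCoh.push f).obj ((EtShriek.extZero j').obj F) ≅
      (EtShriek.extZero j).obj ((EtCoh.push g).obj F)) := by
  let G := (EtCoh.push f).obj ((EtShriek.extZero j').obj F)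
  haveI := isIso_extZero_counit j G fun Ω _ _ ξ hξ => isZero_stalk_push_extZero_integral f j j' g h F ξ hξ
  haveI := EtStalk.isIso_baseChange0_integral f j g j' h ((EtShriek.extZero j').obj F)
  haveI : IsIso ((EtShriek.extZeroAdj j').unit.app F) := NatIso.isIso_app_of_isIso _ F
  let e : (EtShriek.restrAlong j).obj G ≅ (EtCoh.push g).obj F :=
    (restrPullIso j).app G ≪≫ asIso (EtCoh.baseChange0 f j g j' h.w ((EtShriek.extZero j').obj F)) ≪≫
      (EtCoh.push g).mapIso (((restrPullIso j').app ((EtShriek.extZero j').obj F)).symm ≪≫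
        (asIso ((EtShriek.extZeroAdj j').unit.app F)).symm)
  exact ⟨(asIso ((EtShriek.extZeroAdj j).counit.app G)).symm ≪≫ (EtShriek.extZero j).mapIso e⟩

end Groth.Agent.CdP3
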