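import Groth.Agent.Lib.CdP3.Basic
import Groth.Agent.Lib.CdP3.PushIntegral
import Mathlib.AlgebraicGeometry.ZariskisMainTheorem

/-!
# Extending finite morphisms over an open to integral morphisms
-/

universe u

set_option autoImplicit false
set_option linter.style.haveILetI false
set_option backward.isDefEq.respectTransparency.types false

open CategoryTheory CategoryTheory.Limits AlgebraicGeometry Opposite

namespace Groth.Agent.CdP3

variable {X U W : Scheme.{u}} {p d : ℕ}

/-- Finite morphisms over quasi-compact opens extend to integral morphisms, in the class `Good`. -/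
theorem good_extend (hX : Good p d X) (j : U ⟶ X) [IsOpenImmersion j] [QuasiCompact j]
    (c : W ⟶ U) [IsFinite c] :
    ∃ (X' : Scheme.{u}) (π : X' ⟶ X) (_ : IsIntegralHom π) (j' : W ⟶ X')
      (_ : IsOpenImmersion j') (_ : QuasiCompact j'), IsPullback j' c π j ∧ Good p d X' := by
  let g : W ⟶ X := c ≫ j
  let π := g.fromNormalization
  let j' := g.toNormalization
  have hw : j' ≫ π = c ≫ j := g.toNormalization_fromNormalization
  haveI : IsOpenImmersion j' := inferInstance
  haveI : QuasiCompact j' := by
    haveI : QuasiCompact (j' ≫ π) := by rw [hw]; infer_instance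
    exact QuasiCompact.of_comp j' π
  let U' : (g.normalization).Opens := π ⁻¹ᵁ j.opensRange
  have hsub : Set.range j' ⊆ U' := by
    rintro _ ⟨w, rfl⟩
    exact ⟨c w, by rw [← Scheme.Hom.comp_apply, ← Scheme.Hom.comp_apply, hw]⟩
  have heq : Set.range j' = U' := by
    let l : W ⟶ U'.toScheme := IsOpenImmersion.lift U'.ι j' (by rwa [Scheme.Opens.range_ι])
    have hl : l ≫ U'.ι = j' := IsOpenImmersion.lift_fac _ _ _
    let m : U'.toScheme ⟶ U := IsOpenImmersion.lift j (U'.ι ≫ π) (by
      rintro _ ⟨y, rfl⟩
      exact y.2)
    have hlm : l ≫ m = c := by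
      rw [← cancel_mono j, Category.assoc, IsOpenImmersion.lift_fac, reassoc_of% hl, hw]
    haveI : IsSeparated m := by
      haveI : IsSeparated (m ≫ j) := by rw [IsOpenImmersion.lift_fac]; infer_instance
      exact IsSeparated.of_comp m j
    haveI : IsFinite l := by
      haveI : IsFinite (l ≫ m) := by rw [hlm]; infer_instance
      exact MorphismProperty.of_postcomp (W := @IsFinite) (W' := @IsSeparated) l m inferInstance ‹_›
    have hcl : IsClosed (Set.range l) := l.isClosedMap.isClosed_range
    refine subset_antisymm hsub fun y hy => ?_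
    obtain ⟨z, hz⟩ : (⟨y, hy⟩ : U') ∈ Set.range l := by
      rw [← hcl.closure_eq]
      refine closure_subtype.2 ?_
      have he : (Subtype.val '' (Set.range (l : W → U'.toScheme) : Set U') : Set g.normalization) = Set.range j' :=
        (Set.range_comp _ _).symm.trans (congrArg Set.range (funext fun w => congr(($hl) w)))
      exact Eq.subst (motive := fun S => y ∈ closure S) he.symm
        (by rw [g.toNormalization.denseRange.closure_range]; exact Set.mem_univ y)
    exact ⟨z, (congr(($hl) z)).symm.trans (congrArg Subtype.val hz)⟩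
  haveI : IsIntegralHom π := inferInstance
  have hpb : IsPullback j' c π j :=
    (IsOpenImmersion.isPullback c j' j π hw (TopologicalSpace.Opens.ext heq.symm)).flip
  exact ⟨_, π, inferInstance, j', inferInstance, inferInstance, hpb, hX.of_affine π⟩

/-- Vanishing for extensions by zero of finite direct images follows from vanishing for extensions by zero. -/
theorem van_of_finite {C : Scheme.{u} → Prop} (hC : Cls p d C) (hX : C X) (j : U ⟶ X) [IsOpenImmersion j]
    [QuasiCompact j] [EtShriek.JCont j] (c : W ⟶ U) [IsFinite c] (G : EtCoh.Ab W)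
    (h : ∀ (X' : Scheme.{u}) (_ : C X') (j' : W ⟶ X') (_ : IsOpenImmersion j') (_ : QuasiCompact j')
      [EtShriek.JCont j'], Van d ((EtShriek.extZero j').obj G)) :
    Van d ((EtShriek.extZero j).obj ((EtCoh.push c).obj G)) := by
  obtain ⟨X', π, hπ, j', hj', hjc', hpb, hX'⟩ := hC.extend hX j ‹_› ‹_› c ‹_›
  haveI := hπ
  haveI := hj'
  obtain ⟨e⟩ := nonempty_push_extZero_iso_integral π j j' c hpb G
  exact ((h _ hX' j' hj' hjc').of_push_integral π).of_iso e

end Groth.Agent.CdP3
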