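import Groth.Agent.Lib.Pinch4.Descend
import Groth.Agent.Lib.Pinch4.Morph
import Groth.Agent.Lib.Pinch4.Std

/-!
# Doubling a scheme outside a closed subset
-/

universe u

set_option autoImplicit false
set_option linter.style.haveILetI false
set_option backward.isDefEq.respectTransparency.types false

open CategoryTheory CategoryTheory.Limits AlgebraicGeometry TopologicalSpace
open Groth.Agent.Pinch4

namespace Groth.Agent.CdP3

variable {X Z P U : Scheme.{u}}

/-- Two copies of a scheme glued along a closed subscheme are affine over the scheme. -/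
theorem isAffineHom_fold {i : Z ⟶ X} [IsClosedImmersion i] {a b : X ⟶ P} (H : IsPinch i i a b) (π : P ⟶ X)
    (ha : a ≫ π = 𝟙 X) (hb : b ≫ π = 𝟙 X) : IsAffineHom π := by
  refine ⟨fun O hO => ?_⟩
  haveI : IsAffine O.toScheme := hO
  haveI : IsAffine (i ⁻¹ᵁ O).toScheme := hO.preimage i
  haveI : IsClosedImmersion (i ∣_ O) := IsZariskiLocalAtTarget.restrict (P := @IsClosedImmersion) inferInstance _
  obtain ⟨P', a', b', H', c⟩ := exists_affine (i ∣_ O) (i ∣_ O)
  haveI : IsAffine (⊤ : P'.Opens).toScheme := c.affO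
  haveI : IsAffine P' := IsAffine.of_isIso (Scheme.topIso P').inv
  obtain ⟨f, hfa, hfb⟩ := H'.exists_desc (O.ι ≫ a) (O.ι ≫ b) (by
    rw [morphismRestrict_ι_assoc, morphismRestrict_ι_assoc, H.w])
  have r : i ⁻¹ᵁ O.ι.opensRange = (i ⁻¹ᵁ O).ι.opensRange := by
    rw [Scheme.Opens.opensRange_ι, Scheme.Opens.opensRange_ι]
  obtain ⟨hf, h1, h2⟩ := H.isOpenImmersion_desc H' O.ι O.ι (i ⁻¹ᵁ O).ι (morphismRestrict_ι i O).symm
    (morphismRestrict_ι i O).symm r r f hfa hfb
  rw [Scheme.Opens.opensRange_ι] at h1 h2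
  have hS : π ⁻¹ᵁ O = f.opensRange := by
    refine H.opens_ext ?_ ?_
    · rw [← Scheme.Hom.comp_preimage, ha, h1]; rfl
    · rw [← Scheme.Hom.comp_preimage, hb, h2]; rfl
  rw [hS]
  exact isAffineOpen_opensRange f

/-- The pinching of a scheme and the empty scheme along the empty scheme. -/
theorem isPinch_empty (U : Scheme.{u}) :
    IsPinch (Scheme.emptyTo U) (𝟙 (∅ : Scheme.{u})) (𝟙 U) (Scheme.emptyTo U) := by
  refine ⟨by simp, fun x => ?_⟩
  obtain ⟨O, hO, hx, -⟩ := exists_isAffineOpen_mem_and_subset (X := U) (x := x) (U := ⊤) trivial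
  have hbot : ∀ W : (∅ : Scheme.{u}).Opens, W = ⊥ := fun W => le_bot_iff.1 fun y _ => isEmptyElim y
  have hsub : ∀ W : (∅ : Scheme.{u}).Opens, Subsingleton Γ((∅ : Scheme.{u}), W) := fun W => by
    rw [hbot W]; infer_instance
  refine ⟨O, hx, ⟨hO, hO, ?_, ?_, fun y _ => isEmptyElim y, ?_⟩⟩
  · rw [hbot (Scheme.emptyTo U ⁻¹ᵁ O)]; exact isAffineOpen_bot _
  · rw [hbot (Scheme.emptyTo U ⁻¹ᵁ _)]; exact isAffineOpen_bot _
  · exact
      { surj := fun y => ⟨0, (hsub _).elim _ _⟩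
        comm := fun x => (hsub _).elim _ _
        exist := fun b a' _ => ⟨a', (hsub _).elim _ _, rfl⟩
        ext := fun x y _ h => h }

/-- A scheme doubled along the complement of an open subscheme. -/
theorem exists_double (j : U ⟶ X) [IsOpenImmersion j] :
    ∃ (P : Scheme.{u}) (π : P ⟶ X) (a b : X ⟶ P) (_ : IsIntegralHom π) (_ : IsClosedImmersion a)
      (_ : IsClosedImmersion b) (_ : IsOpenImmersion (j ≫ a)),
      (IsLocallyNoetherian X → LocallyOfFiniteType π) ∧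
      a ≫ π = 𝟙 X ∧ b ≫ π = 𝟙 X ∧ Set.range (j ≫ a) = (Set.range b)ᶜ ∧ IsPullback j (𝟙 U) a (j ≫ a) := by
  let I := Scheme.IdealSheafData.vanishingIdeal
    (⟨(Set.range j)ᶜ, j.opensRange.2.isClosed_compl⟩ : Closeds X)
  let i := I.subschemeι
  have hi : Set.range i = (Set.range j)ᶜ := by
    rw [Scheme.IdealSheafData.range_subschemeι, Scheme.IdealSheafData.coe_support_vanishingIdeal]
    rfl
  obtain ⟨P, a, b, H⟩ := exists_isPinch (cond_of_closed (i := i) (j := i))
  obtain ⟨π, ha, hb⟩ := H.exists_desc (𝟙 X) (𝟙 X) rfl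
  haveI := H.isClosedImmersion_b
  haveI := H.flip.isClosedImmersion_b
  haveI : UniversallyClosed (a ≫ π) := by rw [ha]; infer_instance
  haveI : UniversallyClosed (b ≫ π) := by rw [hb]; infer_instance
  haveI : IsIntegralHom π := IsIntegralHom.iff_universallyClosed_and_isAffineHom.2
    ⟨H.universallyClosed π, isAffineHom_fold H π ha hb⟩
  have r1 : i ⁻¹ᵁ j.opensRange = (Scheme.emptyTo I.subscheme).opensRange := by
    ext y
    refine ⟨fun hy => absurd hy (hi.subset ⟨y, rfl⟩), fun ⟨z, _⟩ => isEmptyElim z⟩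
  have r2 : i ⁻¹ᵁ (Scheme.emptyTo X).opensRange = (Scheme.emptyTo I.subscheme).opensRange := by
    ext y
    exact ⟨fun ⟨z, _⟩ => isEmptyElim z, fun ⟨z, _⟩ => isEmptyElim z⟩
  obtain ⟨hk, h1, h2⟩ := H.isOpenImmersion_desc (isPinch_empty U) j (Scheme.emptyTo X)
    (Scheme.emptyTo I.subscheme) (Scheme.empty_ext _ _) (Scheme.empty_ext _ _) r1 r2 (j ≫ a)
    (Category.id_comp _) (Scheme.empty_ext _ _)
  have hft : IsLocallyNoetherian X → LocallyOfFiniteType π := fun _ => by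
    haveI : LocallyOfFiniteType (a ≫ π) := by rw [ha]; infer_instance
    haveI : LocallyOfFiniteType (b ≫ π) := by rw [hb]; infer_instance
    exact H.locallyOfFiniteType π
  refine ⟨P, π, a, b, inferInstance, inferInstance, inferInstance, hk, hft, ha, hb, ?_,
    (IsOpenImmersion.isPullback (𝟙 U) j (j ≫ a) a (Category.id_comp _).symm h1).flip⟩
  ext x
  constructor
  · rintro ⟨u, rfl⟩ ⟨y, hy⟩
    have hy' : y ∈ b ⁻¹ᵁ (j ≫ a).opensRange := ⟨u, hy.symm⟩
    rw [h2] at hy'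
    obtain ⟨z, _⟩ := hy'
    exact isEmptyElim z
  · intro hx
    rcases H.covers x with ⟨z, rfl⟩ | ⟨y, rfl⟩
    · by_cases hz : z ∈ Set.range j
      · obtain ⟨u, rfl⟩ := hz; exact ⟨u, rfl⟩
      · obtain ⟨w, rfl⟩ := hi.symm.subset hz
        exact absurd ⟨i w, by rw [← Scheme.Hom.comp_apply, ← H.w, Scheme.Hom.comp_apply]⟩ hx
    · exact absurd ⟨y, rfl⟩ hx

end Groth.Agent.CdP3
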