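import Groth.Agent.Lib.CdP3.Basic
import Groth.Agent.Lib.CdP3.Double
import Groth.Agent.Lib.FibVan3.Double
import Groth.Agent.Lib.CdP3.PushIntegral
import Groth.Agent.Lib.CdP3.Compactify
import Groth.Agent.Lib.Constr24.Filtration
import Groth.Agent.Lib.EtDesc24.PullH
import Groth.Agent.Lib.GaCoh3.ASGlobal
import Groth.Agent.Lib.ModM1.Local

/-!
# Vanishing for constant sheaves extended by zero
-/

universe u

set_option autoImplicit false
set_option linter.style.haveILetI false
set_option backward.isDefEq.respectTransparency.types false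

open CategoryTheory CategoryTheory.Limits AlgebraicGeometry Opposite

namespace Groth.Agent.CdP3

variable {X U : Scheme.{u}} {p d : ℕ}

theorem van_const [Fact p.Prime] (hX : Good p d X) : Van d (EtCoh.const X (ZMod p)) := fun q hq => by
  obtain ⟨n, rfl⟩ : ∃ n, q = n + 1 := ⟨q - 1, by omega⟩
  have key : ∀ m, d < m → Subsingleton (EtCoh.H X (EtCoh.Ga X) m) := fun m hm => by
    obtain ⟨e, -⟩ := GaCoh3.exists_H_Ga_equiv X m
    haveI := hX.hqc (Coh.structureModule X)
      (M1.isQCoh_structureModule X) m hm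
    exact e.injective.subsingleton
  exact GaCoh3.subsingleton_H_zmod p hX.h0 (key _ (by omega)) (key _ (by omega))

theorem Van.of_retract {A B : EtCoh.Ab X} (h : Van d B) (a : A ⟶ B) (r : B ⟶ A) (har : a ≫ r = 𝟙 A) :
    Van d A := fun q hq => subsingleton_of_forall_eq 0 fun x => by
  rw [← Sheaf.H.map_id_apply x, ← har, Sheaf.H.map_comp_apply, (h q hq).elim (Sheaf.H.map a q x) 0,
    map_zero]

theorem Van.of_push_integral' {X' : Scheme.{u}} (π : X' ⟶ X) [IsIntegralHom π] {F : EtCoh.Ab X'}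
    (h : Van d ((EtCoh.push π).obj F)) : Van d F := fun q hq => by
  haveI := h q hq
  exact (FieldH25.bijective_HofPush_integral π F q).2.subsingleton

theorem isIso_unit_comp_of_section {P : Scheme.{u}} (π : P ⟶ X) (b : X ⟶ P) (hb : b ≫ π = 𝟙 X) :
    IsIso ((EtCoh.pullPushAdj π).comp (EtCoh.pullPushAdj b)).unit := by
  let e : EtCoh.push b ⋙ EtCoh.push π ≅ 𝟭 (EtCoh.Ab X) :=
    EtCoh.pushComp π b ≪≫ EtCoh.pushCongr hb ≪≫ EtDesc24.pushId X
  let A := (EtCoh.pullPushAdj π).comp (EtCoh.pullPushAdj b)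
  let eL := (A.ofNatIsoRight e).leftAdjointUniq (Adjunction.id (C := EtCoh.Ab X))
  exact A.isIso_unit_of_iso (NatIso.hcomp eL e ≪≫ Functor.leftUnitor _)

/-- The class `Good` allows dévissage. -/
theorem Good.cls [Fact p.Prime] : Cls.{u} p d (Good p d) where
  compact h := h.compact
  van_const h := van_const h
  of_integral h π hπ _ := haveI := hπ; h.of_affine π
  extend h j hj hjc c hc := haveI := hj; haveI := hjc; haveI := hc; good_extend h j c

/-- Vanishing for extensions by zero of the constant sheaf along open immersions. -/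
theorem van_extZero_const {C : Scheme.{u} → Prop} (hC : Cls p d C) (hX : C X) (j : U ⟶ X) [IsOpenImmersion j]
    [QuasiCompact j] [EtShriek.JCont j] : Van d ((EtShriek.extZero j).obj (EtCoh.const U (ZMod p))) := by
  obtain ⟨P, π, a, b, hπ, ha', hb', hk, hft, haπ, hbπ, hr, hpb⟩ :
      ∃ (P : Scheme.{u}) (π : P ⟶ X) (a b : X ⟶ P) (_ : IsIntegralHom π) (_ : IsClosedImmersion a)
        (_ : IsClosedImmersion b) (_ : IsOpenImmersion (j ≫ a)),
        (QuasiSeparatedSpace X → LocallyOfFiniteType π) ∧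
        a ≫ π = 𝟙 X ∧ b ≫ π = 𝟙 X ∧ Set.range (j ≫ a) = (Set.range b)ᶜ ∧ IsPullback j (𝟙 U) a (j ≫ a) := by
    by_cases hqs : QuasiSeparatedSpace X
    · haveI := hC.compact hX
      obtain ⟨P, π, a, b, hπ, ha', hb', hk, h⟩ := FibVan3.exists_double j
      exact ⟨P, π, a, b, inferInstance, ha', hb', hk, fun _ => inferInstance, h⟩
    · obtain ⟨P, π, a, b, hπ, ha', hb', hk, -, h⟩ := exists_double j
      exact ⟨P, π, a, b, hπ, ha', hb', hk, fun h' => absurd h' hqs, h⟩
  haveI : EtShriek.JCont (j ≫ a) := inferInstance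
  let K := EtCoh.const X (ZMod p)
  let F := (EtCoh.pull π).obj K
  let eF : F ≅ EtCoh.const P (ZMod p) := EtCore.pullConst π (ZMod p)
  obtain ⟨w, hS⟩ := Constr24.shortExact_extZero_pull' b (j ≫ a) hr F
  let S := ShortComplex.mk _ _ w
  haveI : (EtCoh.push π).Additive := (EtCoh.pullPushAdj π).right_adjoint_additive
  haveI := (EtCoh.pullPushAdj π).isRightAdjoint
  let S' := S.map (EtCoh.push π)
  haveI := hS.mono_f
  have hm : Mono S'.f := inferInstanceAs (Mono ((EtCoh.push π).map S.f))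
  have hex : S'.Exact := hS.exact.map_of_mono_of_preservesKernel _ inferInstance inferInstance
  haveI := isIso_unit_comp_of_section π b hbπ
  let θ := ((EtCoh.pullPushAdj π).comp (EtCoh.pullPushAdj b)).unit.app K
  have hθ : (EtCoh.pullPushAdj π).unit.app K ≫ S'.g = θ := by
    show _ = ((EtCoh.pullPushAdj π).comp (EtCoh.pullPushAdj b)).unit.app K
    rw [Adjunction.comp_unit_app]
    rfl
  obtain ⟨θ', -, hθ'⟩ :=
    (NatIso.isIso_app_of_isIso ((EtCoh.pullPushAdj π).comp (EtCoh.pullPushAdj b)).unit K).out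
  let s : S'.X₃ ⟶ S'.X₂ := θ' ≫ (EtCoh.pullPushAdj π).unit.app K
  have hs : s ≫ S'.g = 𝟙 _ :=
    ((Category.assoc _ _ _).trans (congrArg (θ' ≫ ·) hθ)).trans hθ'
  let sp := ShortComplex.Splitting.ofExactOfSection S' hex s hs hm
  have hF : Van d ((EtCoh.push π).obj F) :=
    ((hC.van_const (hC.of_integral hX π hπ hft)).of_iso eF.symm).of_push_integral π
  have hK : Van d ((EtShriek.extZero (j ≫ a)).obj ((EtShriek.restrAlong (j ≫ a)).obj F)) :=
    Van.of_push_integral' π (Van.of_retract hF S'.f sp.r sp.f_r)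
  let eU : (EtShriek.restrAlong (j ≫ a)).obj F ≅ EtCoh.const U (ZMod p) :=
    (EtShriek.restrAlong (j ≫ a)).mapIso eF ≪≫ (EtStalk.restrPullIso (j ≫ a)).app _ ≪≫
      EtCore.pullConst (j ≫ a) (ZMod p)
  obtain ⟨e⟩ := nonempty_push_extZero_iso_integral a (j ≫ a) j (𝟙 U) hpb (EtCoh.const U (ZMod p))
  exact Van.of_push_integral' a ((hK.of_iso ((EtShriek.extZero (j ≫ a)).mapIso eU)).of_iso
    ((EtShriek.extZero (j ≫ a)).mapIso ((EtDesc24.pushId U).app _).symm ≪≫ e.symm))

end Groth.Agent.CdP3
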