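import Groth.Agent.Lib.CohFound.AffMor
import Groth.Agent.Lib.CohFound.HHBridge
import Groth.Agent.Lib.FieldH25.Transfer
import Groth.Agent.Lib.EtStalk.ExtZero
import Groth.Agent.Lib.ModM1.Push
import Groth.Prelude.Def_Coh

/-!
# Vanishing above a bound: formal properties
-/

universe u

set_option autoImplicit false
set_option linter.style.haveILetI false
set_option backward.isDefEq.respectTransparency.types false

open CategoryTheory CategoryTheory.Limits AlgebraicGeometry Opposite Abelian

namespace Groth.Agent.CdP3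

variable {X : Scheme.{u}}

/-- A quasi-compact quasi-separated scheme of characteristic `p` on which the cohomology of
quasi-coherent modules vanishes above degree `d`. -/
structure Good (p d : ℕ) (X : Scheme.{u}) : Prop where
  compact : CompactSpace X
  qs : QuasiSeparatedSpace X
  h0 : (p : Γ(X, ⊤)) = 0
  hqc : ∀ M : X.Modules, Coh.IsQCoh M → ∀ q : ℕ, d < q → Subsingleton (Coh.HH X M q)

/-- The cohomology of `F` vanishes above degree `d + 1`. -/
def Van (d : ℕ) (F : EtCoh.Ab X) : Prop := ∀ q : ℕ, d + 1 < q → Subsingleton (EtCoh.H X F q)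

/-- A class of schemes on which vanishing above degree `d + 1` can be proved by dévissage: the
constant sheaf `ℤ/p` vanishes, and the class is preserved under the integral covers used. -/
structure Cls (p d : ℕ) (C : Scheme.{u} → Prop) : Prop where
  compact : ∀ {X : Scheme.{u}}, C X → CompactSpace X
  van_const : ∀ {X : Scheme.{u}}, C X → Van d (EtCoh.const X (ZMod p))
  of_integral : ∀ {X P : Scheme.{u}}, C X → ∀ π : P ⟶ X, IsIntegralHom π →
    (QuasiSeparatedSpace X → LocallyOfFiniteType π) → C P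
  extend : ∀ {X U W : Scheme.{u}}, C X → ∀ j : U ⟶ X, IsOpenImmersion j → QuasiCompact j →
    ∀ c : W ⟶ U, IsFinite c → ∃ (X' : Scheme.{u}) (π : X' ⟶ X) (_ : IsIntegralHom π) (j' : W ⟶ X')
      (_ : IsOpenImmersion j') (_ : QuasiCompact j'), IsPullback j' c π j ∧ C X'

variable {d : ℕ}

theorem Good.of_affine {p : ℕ} {X' : Scheme.{u}} (π : X' ⟶ X) [IsAffineHom π] (hX : Good p d X) :
    Good p d X' where
  compact := haveI := hX.compact; QuasiCompact.compactSpace_of_compactSpace π
  qs := haveI := hX.qs; quasiSeparatedSpace_of_quasiSeparated π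
  h0 := by rw [← map_natCast π.appTop.hom, hX.h0, map_zero]
  hqc M hM q hq := by
    haveI : M.IsQuasicoherent := hM
    haveI := hX.compact
    haveI := hX.qs
    rw [CohFound.subsingleton_HH_iff]
    obtain ⟨e⟩ := CohFound.nonempty_hc_push_isAffineHom π M q (⊤ : X.Opens)
    haveI := (CohFound.subsingleton_HH_iff _ q).1
      (hX.hqc ((Scheme.Modules.pushforward π).obj M) (M1.isQCoh_push _ hM) q hq)
    exact e.symm.injective.subsingleton

theorem eq_zero_of_map_iso {A B : EtCoh.Ab X} (e : A ≅ B) {n : ℕ} (x : EtCoh.H X A n)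
    (h : Sheaf.H.map e.hom n x = 0) : x = 0 :=
  FieldH25.eq_zero_of_comp_iso x e h

theorem Van.of_iso {A B : EtCoh.Ab X} (h : Van d A) (e : A ≅ B) : Van d B := fun q hq =>
  subsingleton_of_forall_eq 0 fun x => eq_zero_of_map_iso e.symm x ((h q hq).elim _ _)

theorem Van.of_isZero {A : EtCoh.Ab X} (h : IsZero A) : Van d A := fun q _ =>
  subsingleton_of_forall_eq 0 fun x => by
    rw [← Sheaf.H.map_id_apply x, h.eq_of_src (𝟙 A) 0]
    show x.comp (Ext.mk₀ 0) (add_zero q) = 0
    rw [Ext.mk₀_zero, Ext.comp_zero]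

theorem Van.middle {S : ShortComplex (EtCoh.Ab X)} (hS : S.ShortExact) (h1 : Van d S.X₁) (h3 : Van d S.X₃) :
    Van d S.X₂ := fun q hq => subsingleton_of_forall_eq 0 fun x => by
  obtain ⟨y, hy⟩ := Ext.covariant_sequence_exact₂ _ hS x ((h3 q hq).elim _ _)
  rw [← hy, (h1 q hq).elim y 0, Ext.zero_comp]

/-- The condition for vanishing passes to the left term when the edge map is onto. -/
theorem Van.left {S : ShortComplex (EtCoh.Ab X)} (hS : S.ShortExact) (h2 : Van d S.X₂) (h3 : Van d S.X₃)
    (hs : Function.Surjective (Sheaf.H.map S.g (d + 1))) : Van d S.X₁ := fun q hq =>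
  subsingleton_of_forall_eq 0 fun x => by
    obtain ⟨n, rfl⟩ : ∃ n, q = n + 1 := ⟨q - 1, by omega⟩
    obtain ⟨y, rfl⟩ := Ext.covariant_sequence_exact₁ _ hS x ((h2 _ hq).elim _ _) (n₀ := n) rfl
    rcases Nat.lt_or_ge (d + 1) n with h | h
    · rw [(h3 n h).elim y 0, Ext.zero_comp]
    · obtain rfl : n = d + 1 := by omega
      obtain ⟨w, rfl⟩ := hs y
      show (w.comp (Ext.mk₀ S.g) (add_zero _)).comp hS.extClass rfl = 0
      rw [Ext.comp_assoc_of_second_deg_zero, hS.comp_extClass, Ext.comp_zero]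

theorem Van.of_push_integral {X' : Scheme.{u}} (π : X' ⟶ X) [IsIntegralHom π] {F : EtCoh.Ab X'}
    (h : Van d F) : Van d ((EtCoh.push π).obj F) := fun q hq => by
  haveI := h q hq
  exact (FieldH25.bijective_HofPush_integral π F q).1.subsingleton

/-- Vanishing from a multiple of the identity factoring through a vanishing sheaf. -/
theorem Van.of_factor {A B : EtCoh.Ab X} (p m : ℕ) (hm : Nat.Coprime p m) (hA : p • 𝟙 A = 0)
    (a : A ⟶ B) (b : B ⟶ A) (hab : a ≫ b = m • 𝟙 A) (hB : Van d B) : Van d A := fun q hq =>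
  subsingleton_of_forall_eq 0 fun x => by
    have h1 : m • x = 0 := by
      rw [← FieldH25.H_map_nsmul_id A m q x, ← hab, Sheaf.H.map_comp_apply,
        (hB q hq).elim (Sheaf.H.map a q x) 0, map_zero]
    have h2 : p • x = 0 := by
      rw [← FieldH25.H_map_nsmul_id A p q x, hA]
      have h := FieldH25.H_map_nsmul_id A 0 q x
      rwa [zero_nsmul, zero_nsmul] at h
    exact AddMonoid.addOrderOf_eq_one_iff.1 (Nat.eq_one_of_dvd_coprimes hm
      (addOrderOf_dvd_of_nsmul_eq_zero h2) (addOrderOf_dvd_of_nsmul_eq_zero h1))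

end Groth.Agent.CdP3
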