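import Groth.Agent.Lib.EtRep3.Flc
import Groth.Agent.Lib.EtRep3.Site
import Groth.Agent.Lib.ExtShriek24.TraceFinEt
import Groth.Agent.Lib.Constr24.Card
import Groth.Agent.Lib.LocConst24.Const
import Groth.Agent.Lib.EtStalk.Pull

/-!
# Splitting off a constant subsheaf after a finite étale cover of degree prime to `p`
-/

universe u

set_option autoImplicit false
set_option linter.style.haveILetI false
set_option backward.isDefEq.respectTransparency false
set_option backward.isDefEq.respectTransparency.types false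

open CategoryTheory CategoryTheory.Limits AlgebraicGeometry Opposite
open Groth.Agent.EtStalk Groth.Agent.EtSite Groth.Agent.LocConst24

namespace Groth.Agent.CdP3

variable {U : Scheme.{u}} {G : EtCoh.Ab U} {p : ℕ}

/-- The point of the final object. -/
noncomputable def topPt {Ω : Type u} [Field Ω] [IsSepClosed Ω] (ξ : Spec (CommRingCat.of Ω) ⟶ U) :
    fib ξ (EtCoh.top U) :=
  Over.homMk ξ (Category.comp_id _)

theorem nsmul_section_eq_zero {G : EtCoh.Ab U} (hp : p • 𝟙 G = 0) {W : U.Etale} (s : G.obj.obj (op W)) : p • s = 0 :=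
  let φ : (G ⟶ G) →+ G.obj.obj (op W) := AddMonoidHom.mk' (fun a => a.hom.app (op W) s) fun _ _ => rfl
  (map_nsmul φ p (𝟙 G)).symm.trans ((congrArg φ hp).trans (map_zero φ))

theorem exists_rep_fib (h : EtCoh.IsFiniteLocallyConstant G) :
    ∃ (E : U.Etale) (_ : IsFinite E.hom) (t₀ : G.obj.obj (op E)),
      (∀ W : U.Etale, Function.Bijective fun g : W ⟶ E => G.obj.map g.op t₀) ∧
      ∀ (Ω : Type u) [Field Ω] [IsSepClosed Ω] (ξ : Spec (CommRingCat.of Ω) ⟶ U),
        Function.Bijective fun x : fib ξ E => germ ξ G x t₀ := by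
  obtain ⟨E, hE, t₀, hb⟩ := EtRep3.exists_rep (EtRep3.isSheaf_forget G) (EtRep3.locFinite_of_flc h)
  refine ⟨E, hE, t₀, hb, fun Ω _ _ ξ => ⟨fun x x' e => ?_, fun q => ?_⟩⟩
  · obtain ⟨W, z, a, b, ha, hb'⟩ := exists_common_fib ξ x x'
    change germ ξ G x t₀ = germ ξ G x' t₀ at e
    rw [← ha, ← hb', ← germ_map, ← germ_map] at e
    obtain ⟨V, g, y, hy, he⟩ := (germ_eq_iff ξ G z _ _).1 e
    have he' : G.obj.map (g ≫ a).op t₀ = G.obj.map (g ≫ b).op t₀ := by
      rw [op_comp, op_comp, G.obj.map_comp, G.obj.map_comp, ConcreteCategory.comp_apply, ConcreteCategory.comp_apply]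
      exact he
    rw [← ha, ← hb', ← hy]
    exact congrArg (fun k => (Scheme.pointSmallEtale ξ).fiber.map k y) ((hb V).1 he') |> fun h => by
      simpa only [Functor.map_comp, types_comp_apply] using h
  · obtain ⟨W, x, s, rfl⟩ := germ_surjective ξ G q
    obtain ⟨g, hg⟩ := (hb W).2 s
    refine ⟨(Scheme.pointSmallEtale ξ).fiber.map g x, ?_⟩
    show germ ξ G _ t₀ = _
    rw [← germ_map]
    exact congrArg (germ ξ G x) hg

theorem exists_split [Fact p.Prime] (hG : EtCoh.IsFiniteLocallyConstant G) (hp : p • 𝟙 G = 0) (N : ℕ)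
    (hN : ∀ (Ω : Type u) [Field Ω] [IsSepClosed Ω] (ξ : Spec (CommRingCat.of Ω) ⟶ U),
      Nat.card ((EtCoh.stalk ξ).obj G) = N) :
    ∃ (W : Scheme.{u}) (f : W ⟶ U) (_ : IsFinite f) (_ : AlgebraicGeometry.Etale f)
      (φ : EtCoh.const W (ZMod p) ⟶ (EtCoh.pull f).obj G), Mono φ ∧ ∀ x : U, f.finrank x = N - 1 := by
  obtain ⟨E, hE, t₀, hb, hfib⟩ := exists_rep_fib hG
  haveI : AlgebraicGeometry.Etale E.hom := E.prop
  obtain ⟨z, hz⟩ := (hb (EtCoh.top U)).2 0
  change G.obj.map z.op t₀ = 0 at hz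
  let zl : U ⟶ E.left := z.left
  have hzs : zl ≫ E.hom = 𝟙 U := MorphismProperty.Over.w z
  haveI : AlgebraicGeometry.Etale zl := EtRep3.etale_left z
  haveI : IsClosedImmersion zl := by
    haveI : IsClosedImmersion (zl ≫ E.hom) := by rw [hzs]; infer_instance
    exact IsClosedImmersion.of_comp zl E.hom
  let A : E.left.Opens := ⟨(Set.range zl)ᶜ, zl.isClosedEmbedding.isClosed_range.isOpen_compl⟩
  haveI : IsClosedImmersion A.ι := IsClosedImmersion.of_isPreimmersion A.ι (by
    rw [Scheme.Opens.range_ι]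
    exact (zl.isOpenMap.isOpen_range).isClosed_compl)
  let f : A.toScheme ⟶ U := A.ι ≫ E.hom
  have hmem : ∀ (Ω : Type u) [Field Ω] [IsSepClosed Ω] (ξ : Spec (CommRingCat.of Ω) ⟶ U)
      (a : Spec (CommRingCat.of Ω) ⟶ E.left), a ≫ E.hom = ξ → (a default ∉ A ↔ a = ξ ≫ zl) := by
    intro Ω _ _ ξ a ha
    refine ⟨fun h => ?_, fun h => ?_⟩
    · obtain ⟨ζ, rfl⟩ := Constr24.exists_lift_immersion zl a (not_not.1 h)
      rw [Category.assoc, hzs] at ha
      exact congrArg (· ≫ zl) ((Category.comp_id ζ).symm.trans ha)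
    · subst h
      exact fun h' => h' ⟨ξ default, rfl⟩
  have hdeg : ∀ x : U, f.finrank x = N - 1 := by
    classical
    intro x
    let ξ : Spec (CommRingCat.of (AlgebraicClosure (U.residueField x))) ⟶ U :=
      Spec.map (CommRingCat.ofHom (algebraMap (U.residueField x) (AlgebraicClosure (U.residueField x)))) ≫
        U.fromSpecResidueField x
    let L := {a : Spec (CommRingCat.of (AlgebraicClosure (U.residueField x))) ⟶ E.left // a ≫ E.hom = ξ}
    let eL : fib ξ E ≃ L :=
      { toFun := fun a => ⟨a.left, Over.w a⟩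
        invFun := fun a => Over.homMk a.1 a.2
        left_inv := fun a => rfl
        right_inv := fun a => rfl }
    have hL : Nat.card L = N := by
      rw [← Nat.card_congr eL, Nat.card_eq_of_bijective _ (hfib _ ξ), hN]
    let a₀ : L := ⟨ξ ≫ zl, by rw [Category.assoc, hzs, Category.comp_id]⟩
    have e : {a // a ≫ f = ξ} ≃ {a : L // a ≠ a₀} :=
      { toFun := fun a => ⟨⟨a.1 ≫ A.ι, by rw [Category.assoc]; exact a.2⟩, fun h =>
          (hmem _ ξ (a.1 ≫ A.ι) (by rw [Category.assoc]; exact a.2)).2 (congrArg Subtype.val h)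
            (by rw [Scheme.Hom.comp_apply]; exact (a.1 default).2)⟩
        invFun := fun a => ⟨IsOpenImmersion.lift A.ι a.1.1 (by
          rintro _ ⟨y, rfl⟩
          rw [Scheme.Opens.range_ι]
          obtain rfl : y = default := Subsingleton.elim (α := PrimeSpectrum _) _ _
          by_contra h
          exact a.2 (Subtype.ext ((hmem _ ξ a.1.1 a.1.2).1 h))), by
            rw [← Category.assoc, IsOpenImmersion.lift_fac]; exact a.1.2⟩
        left_inv := fun a => Subtype.ext (by rw [← cancel_mono A.ι, IsOpenImmersion.lift_fac])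
        right_inv := fun a => Subtype.ext (Subtype.ext (IsOpenImmersion.lift_fac _ _ _)) }
    have hpos : 0 < N := by
      by_contra h
      have : Nat.card ((EtCoh.stalk ξ).obj G) = 0 := (hN _ ξ).trans (by omega)
      haveI : Finite L := inferInstance
      have := hL
      rw [show N = 0 by omega, Nat.card_eq_zero] at this
      rcases this with h1 | h1
      · exact h1.false a₀
      · exact not_finite L
    haveI : Finite L := Nat.finite_of_card_ne_zero (by omega)
    have hx : f.finrank (Weight.pt ξ) = f.finrank x := congrArg f.finrank (by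
      show ξ _ = x
      rw [Scheme.Hom.comp_apply]
      exact Scheme.fromSpecResidueField_apply _ _)
    letI := Fintype.ofFinite L
    rw [← hx, ← ExtShriek24.card_lifts_eq_finrank f ξ, Nat.card_congr e, Nat.card_eq_fintype_card,
      Fintype.card_subtype_compl, Fintype.card_subtype_eq, ← Nat.card_eq_fintype_card, hL]
  refine ⟨A.toScheme, f, inferInstance, inferInstance, ?_⟩
  let G' := (EtCoh.pull f).obj G
  let δ : EtCoh.top A.toScheme ⟶ (EtCoh.bc f).obj (sub E A) :=
    MorphismProperty.Over.homMk (pullback.lift (𝟙 _) (𝟙 _) rfl) (pullback.lift_snd _ _ _)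
  let s₁ : G'.obj.obj (op (EtCoh.top A.toScheme)) :=
    G'.obj.map δ.op (((EtCoh.pullPushAdj f).unit.app G).hom.app (op (sub E A)) (G.obj.map (subHom E A).op t₀))
  haveI : (EtCoh.pull f).Additive := (EtCoh.pullPushAdj f).left_adjoint_additive
  have hp' : p • 𝟙 G' = 0 := by
    rw [← (EtCoh.pull f).map_id, ← Functor.map_nsmul, hp, Functor.map_zero]
  have hps : p • s₁ = 0 := nsmul_section_eq_zero hp' s₁
  have hs₁ : ∀ (Ω : Type u) [Field Ω] [IsSepClosed Ω] (ζ : Spec (CommRingCat.of Ω) ⟶ A.toScheme),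
      germ ζ G' (topPt ζ) s₁ ≠ 0 := by
    intro Ω _ _ ζ h0
    let x₀ : fib (ζ ≫ f) (sub E A) := Over.homMk ζ rfl
    have hx₀ : (Scheme.pointSmallEtale ζ).fiber.map δ (topPt ζ) = liftFib f ζ x₀ := by
      refine Over.OverMorphism.ext (pullback.hom_ext ?_ ?_)
      · exact (Category.assoc _ _ _).trans ((congrArg (ζ ≫ ·) (pullback.lift_fst _ _ _)).trans
          ((Category.comp_id _).trans (pullback.lift_fst _ _ _).symm))
      · exact (Category.assoc _ _ _).trans ((congrArg (ζ ≫ ·) (pullback.lift_snd _ _ _)).trans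
          ((Category.comp_id _).trans (pullback.lift_snd _ _ _).symm))
    rw [germ_map, hx₀, ← germ_stalkPull] at h0
    have h1 := (ConcreteCategory.bijective_of_isIso (stalkPull f ζ G)).1 (h0.trans (map_zero _).symm)
    rw [germ_map] at h1
    have h2 : germ (ζ ≫ f) G ((Scheme.pointSmallEtale (ζ ≫ f)).fiber.map z (topPt (ζ ≫ f))) t₀ = 0 := by
      rw [← germ_map, hz, map_zero]
    have h3 : (ζ : _ ⟶ A.toScheme) ≫ A.ι = (ζ ≫ f) ≫ zl :=
      congrArg (fun a : fib (ζ ≫ f) E => a.left) ((hfib Ω (ζ ≫ f)).1 (h1.trans h2.symm))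
    exact (hmem Ω (ζ ≫ f) (ζ ≫ A.ι) (Category.assoc _ _ _)).2 h3
      (by rw [Scheme.Hom.comp_apply]; exact (ζ default).2)
  let ψ : ZMod p →+ G'.obj.obj (op (EtCoh.top A.toScheme)) :=
    ZMod.lift p ⟨zmultiplesHom _ s₁, by simp [hps]⟩
  have hψ : ∀ m : ZMod p, ψ m = m.val • s₁ := fun m => by
    conv_lhs => rw [← ZMod.natCast_zmod_val m]
    rw [← nsmul_one m.val, map_nsmul]
    congr 1
    have h1 : ψ ((1 : ℤ) : ZMod p) = s₁ := (ZMod.lift_coe p _ 1).trans (one_zsmul s₁)
    rwa [Int.cast_one] at h1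
  let J := A.toScheme.smallEtaleTopology
  let P : A.toScheme.Etaleᵒᵖ ⥤ AddCommGrpCat.{u + 1} :=
    (Functor.const A.toScheme.Etaleᵒᵖ).obj (AddCommGrpCat.of (ULift.{u + 1} (ZMod p)))
  let hT := EtCore.topIsTerminal A.toScheme
  let χ : P ⟶ G'.obj :=
    { app := fun O => AddCommGrpCat.ofHom
        (((G'.obj.map (hT.from O.unop).op).hom.comp ψ).comp AddEquiv.ulift.toAddMonoidHom)
      naturality := fun O O' g => AddCommGrpCat.ext fun m => by
        show G'.obj.map (hT.from O'.unop).op (ψ m.down) = G'.obj.map g (G'.obj.map (hT.from O.unop).op (ψ m.down))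
        rw [← ConcreteCategory.comp_apply, ← G'.obj.map_comp]
        exact congrArg (fun k => G'.obj.map k (ψ m.down)) (Quiver.Hom.unop_inj (hT.hom_ext _ _)) }
  let φ : EtCoh.const A.toScheme (ZMod p) ⟶ G' := ⟨sheafifyLift J χ G'.property⟩
  have hφ : ∀ m, φ.hom.app _ (constSec A.toScheme (ZMod p) (EtCoh.top A.toScheme) m) = ψ m := fun m => by
    refine (ConcreteCategory.congr_hom (congrArg (fun a : P ⟶ G'.obj => a.app (op (EtCoh.top A.toScheme)))
      (toSheafify_sheafifyLift J χ G'.property)) (ULift.up m)).trans ?_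
    show G'.obj.map (hT.from (EtCoh.top A.toScheme)).op (ψ m) = ψ m
    rw [hT.hom_ext (hT.from _) (𝟙 _), op_id, G'.obj.map_id]
    rfl
  refine ⟨φ, (mono_iff_stalk φ).2 fun Ω _ _ ζ => ?_, hdeg⟩
  refine (injective_iff_map_eq_zero _).2 fun q hq => ?_
  obtain ⟨m, rfl⟩ := (bijAt_constSec A.toScheme (ZMod p) (EtCoh.top A.toScheme) Ω ζ (topPt ζ)).2 q
  change (EtCoh.stalk ζ).map φ (germ ζ _ (topPt ζ) (constSec _ _ _ m)) = 0 at hq
  rw [germ_nat, hφ, hψ, map_nsmul] at hq
  show germ ζ _ (topPt ζ) (constSec _ _ _ m) = 0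
  have hord : addOrderOf (germ ζ G' (topPt ζ) s₁) = p :=
    addOrderOf_eq_prime (by rw [← map_nsmul, hps, map_zero]) (hs₁ Ω ζ)
  have hm : m = 0 := by
    have hd := addOrderOf_dvd_of_nsmul_eq_zero hq
    rw [hord, ← ZMod.natCast_eq_zero_iff, ZMod.natCast_zmod_val] at hd
    exact hd
  rw [hm, map_zero, map_zero]

end Groth.Agent.CdP3
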