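import Groth.Agent.Lib.CdP3.Base
import Groth.Agent.Lib.CdP3.Compactify
import Groth.Agent.Lib.CdP3.Rep
import Groth.Agent.Lib.ExtShriek24.Iso

/-!
# Vanishing for extensions by zero of finite locally constant `p`-torsion sheaves
-/

universe u

set_option autoImplicit false
set_option linter.style.haveILetI false
set_option backward.isDefEq.respectTransparency.types false
set_option maxHeartbeats 800000

open CategoryTheory CategoryTheory.Limits AlgebraicGeometry Opposite
open Groth.Agent.EtStalk Groth.Agent.LocConst24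

namespace Groth.Agent.CdP3

variable {p d : ℕ} {C : Scheme.{u} → Prop}

/-- All geometric stalks are finite with at most `N` elements. -/
def CardLE {U : Scheme.{u}} (G : EtCoh.Ab U) (N : ℕ) : Prop :=
  ∀ (Ω : Type u) [Field Ω] [IsSepClosed Ω] (ξ : Spec (CommRingCat.of Ω) ⟶ U),
    Finite ((EtCoh.stalk ξ).obj G) ∧ Nat.card ((EtCoh.stalk ξ).obj G) ≤ N

theorem CardLE.pull {U V : Scheme.{u}} {G : EtCoh.Ab U} {N : ℕ} (h : CardLE G N) (f : V ⟶ U) :
    CardLE ((EtCoh.pull f).obj G) N := fun Ω _ _ ξ => by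
  let e := Equiv.ofBijective _ (ConcreteCategory.bijective_of_isIso (stalkPull f ξ G))
  obtain ⟨h1, h2⟩ := h Ω (ξ ≫ f)
  exact ⟨Finite.of_equiv _ e, (Nat.card_congr e.symm).trans_le h2⟩

theorem nsmul_id_map {U V : Scheme.{u}} (Φ : EtCoh.Ab U ⥤ EtCoh.Ab V) [Φ.Additive] {G : EtCoh.Ab U}
    (h : p • 𝟙 G = 0) : p • 𝟙 (Φ.obj G) = 0 := by
  rw [← Φ.map_id, ← Functor.map_nsmul, h, Functor.map_zero]

theorem van_of_cardLE [Fact p.Prime] (hC : Cls p d C) (N : ℕ) : ∀ {X U : Scheme.{u}} (_ : C X) (j : U ⟶ X)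
    [IsOpenImmersion j] [QuasiCompact j] [EtShriek.JCont j] (G : EtCoh.Ab U),
    EtCoh.IsFiniteLocallyConstant G → p • 𝟙 G = 0 → CardLE G N → Van d ((EtShriek.extZero j).obj G) := by
  induction N using Nat.strong_induction_on with
  | _ N ih =>
    intro X U hX j _ _ _ G hG hp hle
    have hzero : ∀ {V : Scheme.{u}} (j : V ⟶ X) [IsOpenImmersion j] [EtShriek.JCont j] (G : EtCoh.Ab V),
        CardLE G 1 → Van d ((EtShriek.extZero j).obj G) := fun j _ _ G h => by
      refine Van.of_isZero (Functor.map_isZero _ ((isZero_iff_stalk G).2 fun Ω _ _ ξ => ?_))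
      obtain ⟨h1, h2⟩ := h Ω ξ
      haveI := h1
      haveI := (Finite.card_le_one_iff_subsingleton).1 h2
      exact AddCommGrpCat.isZero_of_subsingleton _
    -- the case of constant cardinality `N`
    have hconst : ∀ {V : Scheme.{u}} (j : V ⟶ X) [IsOpenImmersion j] [QuasiCompact j] [EtShriek.JCont j]
        (G : EtCoh.Ab V), EtCoh.IsFiniteLocallyConstant G → p • 𝟙 G = 0 → CardLE G N →
        (∀ (Ω : Type u) [Field Ω] [IsSepClosed Ω] (ξ : Spec (CommRingCat.of Ω) ⟶ V),
          Nat.card ((EtCoh.stalk ξ).obj G) = N) → Van d ((EtShriek.extZero j).obj G) := by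
      intro V j _ _ _ G hG hp hle hN
      rcases Nat.lt_or_ge 1 N with hN1 | hN1
      swap
      · exact hzero j G fun Ω _ _ ξ => ⟨(hle Ω ξ).1, (hle Ω ξ).2.trans hN1⟩
      rcases isEmpty_or_nonempty V with hV | ⟨⟨v⟩⟩
      · exact hzero j G fun Ω _ _ ξ => isEmptyElim (ξ default)
      have hcop : Nat.Coprime p (N - 1) := by
        haveI := (hle _ (geomPt V v)).1
        obtain ⟨ℓ, hℓ, hℓN⟩ := Nat.exists_prime_and_dvd (n := N) (by omega)
        haveI := Fact.mk hℓ
        rw [← hN _ (geomPt V v)] at hℓN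
        obtain ⟨x, hx⟩ := exists_prime_addOrderOf_dvd_card' ℓ hℓN
        have hpx : p • x = 0 := by
          obtain ⟨W, z, s, rfl⟩ := germ_surjective (geomPt V v) G x
          rw [← map_nsmul, nsmul_section_eq_zero hp, map_zero]
        have : ℓ ∣ p := hx ▸ addOrderOf_dvd_of_nsmul_eq_zero hpx
        obtain rfl : ℓ = p := (Nat.prime_dvd_prime_iff_eq hℓ Fact.out).1 this
        rw [hN _ (geomPt V v)] at hℓN
        refine (Nat.Prime.coprime_iff_not_dvd hℓ).2 fun h => ?_
        have := Nat.dvd_sub hℓN h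
        rw [show N - (N - 1) = 1 by omega, Nat.dvd_one] at this
        exact hℓ.ne_one this
      obtain ⟨W, f, _, _, φ, hφ, hdeg⟩ := exists_split hG hp N hN
      haveI : EtShriek.JCont f := inferInstance
      haveI : (EtCoh.pull f).Additive := (EtCoh.pullPushAdj f).left_adjoint_additive
      let G' := (EtCoh.pull f).obj G
      have hK : CardLE (cokernel φ) (N - 1) := by
        intro Ω _ _ ξ
        obtain ⟨hfin, hc⟩ := hle.pull f Ω ξ
        let π : (EtCoh.stalk ξ).obj G' → (EtCoh.stalk ξ).obj (cokernel φ) := (EtCoh.stalk ξ).map (cokernel.π φ)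
        have hsurj : Function.Surjective π := (epi_iff_stalk _).1 inferInstance Ω ξ
        have hninj : ¬Function.Injective π := by
          intro hinj
          have hb := bijAt_constSec W (ZMod p) (EtCoh.top W) Ω ξ (topPt ξ)
          have hπ : ∀ q, π ((EtCoh.stalk ξ).map φ q) = π 0 := fun q => by
            show (EtCoh.stalk ξ).map (cokernel.π φ) ((EtCoh.stalk ξ).map φ q) = (EtCoh.stalk ξ).map (cokernel.π φ) 0
            rw [← ConcreteCategory.comp_apply, ← Functor.map_comp, cokernel.condition, map_zero, Functor.map_zero]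
            rfl
          refine one_ne_zero (α := ZMod p) (hb.1 ((mono_iff_stalk φ).1 hφ Ω ξ ?_))
          exact (hinj (hπ _)).trans (hinj (hπ _)).symm
        haveI := hfin
        haveI : Finite ((EtCoh.stalk ξ).obj (cokernel φ)) := Finite.of_surjective π hsurj
        letI := Fintype.ofFinite ((EtCoh.stalk ξ).obj G')
        letI := Fintype.ofFinite ((EtCoh.stalk ξ).obj (cokernel φ))
        have := Fintype.card_lt_of_surjective_not_injective π hsurj hninj
        rw [← Nat.card_eq_fintype_card, ← Nat.card_eq_fintype_card] at this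
        change _ < Nat.card ((EtCoh.stalk ξ).obj ((EtCoh.pull f).obj G)) at this
        exact ⟨inferInstance, by omega⟩
      have hflc : EtCoh.IsFiniteLocallyConstant (cokernel φ) :=
        flc_cokernel φ (flc_const W (ZMod p)) (flc_pull f hG)
      have hp' : p • 𝟙 G' = 0 := nsmul_id_map (EtCoh.pull f) hp
      have hpK : p • 𝟙 (cokernel φ) = 0 := by
        rw [← cancel_epi (cokernel.π φ), comp_zero, Preadditive.comp_nsmul, Category.comp_id,
          ← Category.id_comp (cokernel.π φ), ← Preadditive.nsmul_comp, hp', zero_comp]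
      have hB : Van d ((EtShriek.extZero j).obj ((EtCoh.push f).obj G')) := by
        refine van_of_finite hC hX j f G' fun X' hX' j' _ _ _ => ?_
        let S := ShortComplex.mk φ (cokernel.π φ) (cokernel.condition φ)
        have hS : S.ShortExact :=
          { exact := ShortComplex.exact_of_g_is_cokernel _ (cokernelIsCokernel φ), mono_f := hφ }
        haveI := preservesFiniteLimits_extZero j'
        haveI := (EtShriek.extZeroAdj j').leftAdjoint_preservesColimits
        haveI := extZero_additive j'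
        exact (Van.middle (hS.map_of_exact (EtShriek.extZero j')) (van_extZero_const hC hX' j')
          (ih (N - 1) (by omega) hX' j' _ hflc hpK hK) :)
      obtain ⟨adj, hadj⟩ := ExtShriek24.exists_adj_trace f (N - 1) hdeg
      haveI := extZero_additive j
      refine Van.of_factor p (N - 1) hcop (nsmul_id_map (EtShriek.extZero j) hp)
        ((EtShriek.extZero j).map ((EtCoh.pullPushAdj f).unit.app G))
        ((EtShriek.extZero j).map (adj.counit.app G)) ?_ hB
      rw [← Functor.map_comp, hadj G, Functor.map_nsmul, (EtShriek.extZero j).map_id]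
    -- split along the locus of cardinality `N`
    have hclopen := Constr24.isClopen_level (loc_of_flc hG) N
    let Vo : U.Opens := ⟨Constr24.level G N, hclopen.2⟩
    let Wc : U.Opens := ⟨(Constr24.level G N)ᶜ, hclopen.1.isOpen_compl⟩
    let k := Vo.ι
    let i := Wc.ι
    haveI : IsClosedImmersion k := IsClosedImmersion.of_isPreimmersion k (by
      rw [Scheme.Opens.range_ι]; exact hclopen.1)
    haveI : IsClosedImmersion i := IsClosedImmersion.of_isPreimmersion i (by
      rw [Scheme.Opens.range_ι]; exact hclopen.2.isClosed_compl)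
    obtain ⟨w, hS⟩ := Constr24.shortExact_extZero_pull' i k (by
      show Set.range Vo.ι = (Set.range Wc.ι)ᶜ
      rw [Scheme.Opens.range_ι, Scheme.Opens.range_ι]
      exact (compl_compl _).symm) G
    haveI := preservesFiniteLimits_extZero j
    haveI := (EtShriek.extZeroAdj j).leftAdjoint_preservesColimits
    haveI := extZero_additive j
    refine (Van.middle (hS.map_of_exact (EtShriek.extZero j)) ?_ ?_ :)
    · haveI : EtShriek.JCont (k ≫ j) := inferInstance
      haveI : (EtCoh.pull k).Additive := (EtCoh.pullPushAdj k).left_adjoint_additive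
      have h := hconst (k ≫ j) ((EtCoh.pull k).obj G) (flc_pull k hG) (nsmul_id_map (EtCoh.pull k) hp)
        (hle.pull k) fun Ω _ _ ξ => by
          obtain ⟨Ω', _, _, ξ', hξ', hc⟩ := (ξ default).2
          rw [← Nat.card_congr (Equiv.ofBijective _ (ConcreteCategory.bijective_of_isIso (stalkPull k ξ G))), ← hc]
          obtain ⟨V₀, y, hy, M, _, _, σ, hσ⟩ := loc_of_flc hG (k (ξ default))
          rw [Constr24.card_stalk_eq hσ y (ξ ≫ k) (by rw [Constr24.range_eq_singleton, Scheme.Hom.comp_apply, hy]),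
            Constr24.card_stalk_eq hσ y ξ' (by rw [hξ', hy]; rfl)]
      exact h.of_iso ((EtShriek.extZero (k ≫ j)).mapIso ((EtStalk.restrPullIso k).app G).symm ≪≫
        ((ExtShriek24.extZeroComp k j (k ≫ j) rfl).app _).symm)
    · refine van_of_finite hC hX j i _ fun X' hX' j' _ _ _ => ?_
      rcases Nat.eq_zero_or_pos N with rfl | hN
      · refine Van.of_isZero (Functor.map_isZero _ ((isZero_iff_stalk _).2 fun Ω _ _ ξ => ?_))
        obtain ⟨h1, h2⟩ := hle.pull i Ω ξ
        haveI := h1
        haveI := (Finite.card_le_one_iff_subsingleton).1 (h2.trans zero_le_one)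
        exact AddCommGrpCat.isZero_of_subsingleton _
      haveI : (EtCoh.pull i).Additive := (EtCoh.pullPushAdj i).left_adjoint_additive
      refine ih (N - 1) (by omega) hX' j' _ (flc_pull i hG) (nsmul_id_map (EtCoh.pull i) hp) fun Ω _ _ ξ => ?_
      obtain ⟨h1, h2⟩ := hle.pull i Ω ξ
      refine ⟨h1, ?_⟩
      have hne : Nat.card ((EtCoh.stalk ξ).obj ((EtCoh.pull i).obj G)) ≠ N := fun h => (ξ default).2
        ⟨Ω, inferInstance, inferInstance, ξ ≫ i, by
          rw [Constr24.range_eq_singleton, Scheme.Hom.comp_apply]; rfl, by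
          rw [← h]
          exact Nat.card_congr (Equiv.ofBijective _ (ConcreteCategory.bijective_of_isIso (stalkPull i ξ G)))⟩
      omega

/-- Vanishing for extensions by zero of finite locally constant sheaves killed by `p`. -/
theorem van_flc [Fact p.Prime] (hC : Cls p d C) {X U : Scheme.{u}} (hX : C X) (j : U ⟶ X) [IsOpenImmersion j]
    [QuasiCompact j] [EtShriek.JCont j] (G : EtCoh.Ab U) (hG : EtCoh.IsFiniteLocallyConstant G)
    (hp : p • 𝟙 G = 0) : Van d ((EtShriek.extZero j).obj G) := by
  haveI := hC.compact hX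
  haveI : CompactSpace U := QuasiCompact.compactSpace_of_compactSpace j
  have key : ∀ x : U, ∃ N : ℕ, ∃ O : Set U, IsOpen O ∧ x ∈ O ∧ ∀ (Ω : Type u) [Field Ω] [IsSepClosed Ω]
      (ξ : Spec (CommRingCat.of Ω) ⟶ U), ξ default ∈ O →
        Finite ((EtCoh.stalk ξ).obj G) ∧ Nat.card ((EtCoh.stalk ξ).obj G) ≤ N := by
    intro x
    obtain ⟨V₀, y, hy, M, _, hM, σ, hσ⟩ := loc_of_flc hG x
    haveI : AlgebraicGeometry.Etale V₀.hom := V₀.prop
    refine ⟨Nat.card M, Set.range V₀.hom, V₀.hom.isOpenMap.isOpen_range, ⟨y, hy⟩, ?_⟩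
    rintro Ω _ _ ξ ⟨v, hv⟩
    have hc := Constr24.card_stalk_eq hσ v ξ (by rw [Constr24.range_eq_singleton]; exact congrArg _ hv.symm)
    exact ⟨Nat.finite_of_card_ne_zero (hc ▸ Nat.card_pos.ne'), hc.le⟩
  choose N O hO hxO hN using key
  obtain ⟨t, ht⟩ := isCompact_univ.elim_finite_subcover O hO fun x _ => Set.mem_iUnion.2 ⟨x, hxO x⟩
  refine van_of_cardLE hC (t.sup N) hX j G hG hp fun Ω _ _ ξ => ?_
  obtain ⟨x, hx, hxξ⟩ := Set.mem_iUnion₂.1 (ht (Set.mem_univ (ξ default)))
  obtain ⟨h1, h2⟩ := hN x Ω ξ hxξ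
  exact ⟨h1, h2.trans (Finset.le_sup hx)⟩

end Groth.Agent.CdP3
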