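import Groth.Agent.Lib.CdP3.Induct
import Groth.Agent.Lib.Constr24.IndConstr
import Groth.Agent.Lib.EtColim.Site
import Groth.Agent.Lib.EtStalk.IntegralUniv
import Groth.Agent.Lib.EtStalk.OpenImm
import Groth.Agent.S8561
import Groth.Prelude.Def_Dix

/-!
# Vanishing for `p`-primary torsion sheaves
-/

universe u

set_option autoImplicit false
set_option linter.style.haveILetI false
set_option backward.isDefEq.respectTransparency.types false
set_option maxHeartbeats 800000

open CategoryTheory CategoryTheory.Limits AlgebraicGeometry Opposite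
open Groth.Agent.EtStalk Groth.Agent.LocConst24

namespace Groth.Agent.CdP3

variable {p d : ℕ} {C : Scheme.{u} → Prop}

/-- Every element of a geometric stalk is killed by a power of `p`. -/
def PTors {X : Scheme.{u}} (p : ℕ) (G : EtCoh.Ab X) : Prop :=
  ∀ (Ω : Type u) [Field Ω] [IsSepClosed Ω] (ξ : Spec (CommRingCat.of Ω) ⟶ X) (q : (EtCoh.stalk ξ).obj G),
    ∃ a : ℕ, p ^ a • q = 0

variable {X : Scheme.{u}}

theorem PTors.of_primary {F : EtCoh.Ab X} (h : Dix.IsPrimaryTorsion p F) : PTors p F := by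
  intro Ω _ _ ξ q
  obtain ⟨U, x, s, rfl⟩ := germ_surjective ξ F q
  let R : Sieve U :=
    { arrows := fun V g => ∃ k : ℕ, p ^ k • F.obj.map g.op s = 0
      downward_closed := fun {V W g} ⟨k, hk⟩ h => ⟨k, by
        rw [op_comp, F.obj.map_comp, ConcreteCategory.comp_apply, ← map_nsmul, hk, map_zero]⟩ }
  have hR : R ∈ Scheme.smallEtaleTopology X U := by
    rw [EtSite.mem_et_iff]
    intro z
    obtain ⟨V, g, ⟨v, hv⟩, hk⟩ := h U s z
    exact ⟨V, g, v, hk, hv⟩
  obtain ⟨V, g, ⟨k, hk⟩, y, rfl⟩ := (Scheme.pointSmallEtale ξ).jointly_surjective R hR x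
  exact ⟨k, by rw [← germ_map, ← map_nsmul, hk, map_zero]⟩

theorem PTors.of_mono {A B : EtCoh.Ab X} (f : A ⟶ B) [Mono f] (h : PTors p B) : PTors p A := fun Ω _ _ ξ q => by
  obtain ⟨a, ha⟩ := h Ω ξ ((EtCoh.stalk ξ).map f q)
  exact ⟨a, (mono_iff_stalk f).1 ‹_› Ω ξ (by rw [map_nsmul, ha, map_zero])⟩

theorem PTors.of_epi {A B : EtCoh.Ab X} (f : A ⟶ B) [Epi f] (h : PTors p A) : PTors p B := fun Ω _ _ ξ q => by
  obtain ⟨q', rfl⟩ := (epi_iff_stalk f).1 ‹_› Ω ξ q
  obtain ⟨a, ha⟩ := h Ω ξ q'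
  exact ⟨a, by rw [← map_nsmul, ha, map_zero]⟩

theorem PTors.of_iso {A B : EtCoh.Ab X} (e : A ≅ B) (h : PTors p A) : PTors p B := PTors.of_epi e.hom h

theorem PTors.pull {Y : Scheme.{u}} (f : Y ⟶ X) {G : EtCoh.Ab X} (h : PTors p G) :
    PTors p ((EtCoh.pull f).obj G) := fun Ω _ _ ξ q => by
  obtain ⟨q', rfl⟩ := (ConcreteCategory.bijective_of_isIso (stalkPull f ξ G)).2 q
  obtain ⟨a, ha⟩ := h Ω (ξ ≫ f) q'
  exact ⟨a, by rw [← map_nsmul, ha, map_zero]⟩

theorem van_pTors_aux [Fact p.Prime] (hC : Cls p d C) (N : ℕ) : ∀ {X U : Scheme.{u}} (_ : C X) (j : U ⟶ X)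
    [IsOpenImmersion j] [QuasiCompact j] [EtShriek.JCont j] (G : EtCoh.Ab U),
    EtCoh.IsFiniteLocallyConstant G → PTors p G → CardLE G N → Van d ((EtShriek.extZero j).obj G) := by
  induction N using Nat.strong_induction_on with
  | _ N ih =>
    intro X U hX j _ _ _ G hG hp hle
    rcases Nat.lt_or_ge 1 N with hN | hN
    swap
    · refine Van.of_isZero (Functor.map_isZero _ ((isZero_iff_stalk G).2 fun Ω _ _ ξ => ?_))
      obtain ⟨h1, h2⟩ := hle Ω ξ
      haveI := h1
      haveI := (Finite.card_le_one_iff_subsingleton).1 (h2.trans hN)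
      exact AddCommGrpCat.isZero_of_subsingleton _
    let S := ShortComplex.mk (kernel.ι (p • 𝟙 G)) (cokernel.π (kernel.ι (p • 𝟙 G))) (cokernel.condition _)
    have hS : S.ShortExact := { exact := ShortComplex.exact_of_g_is_cokernel _ (cokernelIsCokernel _) }
    have hK : p • 𝟙 (kernel (p • 𝟙 G)) = 0 := by
      rw [← cancel_mono (kernel.ι (p • 𝟙 G)), zero_comp, Preadditive.nsmul_comp, Category.id_comp,
        ← Category.comp_id (kernel.ι (p • 𝟙 G)), ← Preadditive.comp_nsmul, kernel.condition]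
    have hflc := flc_kernel (p • 𝟙 G) hG hG
    haveI := preservesFiniteLimits_extZero j
    haveI := (EtShriek.extZeroAdj j).leftAdjoint_preservesColimits
    haveI := extZero_additive j
    refine (Van.middle (hS.map_of_exact (EtShriek.extZero j)) (van_flc hC hX j _ hflc hK) ?_ :)
    refine ih (N - 1) (by omega) hX j _ (flc_cokernel _ hflc hG)
      (PTors.of_epi (cokernel.π (kernel.ι (p • 𝟙 G))) hp) fun Ω _ _ ξ => ?_
    obtain ⟨hfin, hc⟩ := hle Ω ξ
    haveI := hfin
    let π : (EtCoh.stalk ξ).obj G → (EtCoh.stalk ξ).obj (cokernel (kernel.ι (p • 𝟙 G))) :=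
      (EtCoh.stalk ξ).map (cokernel.π (kernel.ι (p • 𝟙 G)))
    have hsurj : Function.Surjective π := (epi_iff_stalk _).1 inferInstance Ω ξ
    haveI : Finite ((EtCoh.stalk ξ).obj (cokernel (kernel.ι (p • 𝟙 G)))) := Finite.of_surjective π hsurj
    refine ⟨inferInstance, ?_⟩
    show Nat.card ((EtCoh.stalk ξ).obj (cokernel (kernel.ι (p • 𝟙 G)))) ≤ N - 1
    by_cases hne : Subsingleton ((EtCoh.stalk ξ).obj G)
    · have := Finite.card_le_one_iff_subsingleton.2 hne
      have := Nat.card_le_card_of_surjective π hsurj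
      change Nat.card _ ≤ _ at this
      omega
    have hninj : ¬Function.Injective π := by
      intro hinj
      obtain ⟨q, hq⟩ : ∃ q : (EtCoh.stalk ξ).obj G, q ≠ 0 := by
        rw [not_subsingleton_iff_nontrivial] at hne
        exact exists_ne 0
      -- an element of order `p`
      obtain ⟨r, hr0, hrp⟩ : ∃ r : (EtCoh.stalk ξ).obj G, r ≠ 0 ∧ p • r = 0 := by
        classical
        have hex := hp Ω ξ q
        have hpos : Nat.find hex ≠ 0 := fun h => hq (by simpa [h] using Nat.find_spec hex)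
        refine ⟨p ^ (Nat.find hex - 1) • q, Nat.find_min hex (by omega), ?_⟩
        rw [← mul_nsmul', ← pow_succ', Nat.sub_add_cancel (Nat.pos_of_ne_zero hpos)]
        exact Nat.find_spec hex
      have hr : (EtCoh.stalk ξ).map (p • 𝟙 G) r = 0 := by
        obtain ⟨W, z, s, rfl⟩ := germ_surjective ξ G r
        let φ : (G ⟶ G) →+ G.obj.obj (op W) := AddMonoidHom.mk' (fun a => a.hom.app (op W) s) fun _ _ => rfl
        rw [germ_nat, show (p • 𝟙 G).hom.app (op W) s = p • s from map_nsmul φ p (𝟙 G), map_nsmul, hrp]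
      obtain ⟨k, hk⟩ := (function_exact_stalk (S := ShortComplex.mk _ _ (kernel.condition (p • 𝟙 G)))
        (ShortComplex.exact_of_f_is_kernel _ (kernelIsKernel _)) Ω ξ r).1 hr
      refine hr0 (hinj ?_)
      show (EtCoh.stalk ξ).map (cokernel.π _) r = (EtCoh.stalk ξ).map (cokernel.π _) 0
      rw [← hk, map_zero, ← ConcreteCategory.comp_apply, ← Functor.map_comp, cokernel.condition,
        Functor.map_zero]
      rfl
    letI := Fintype.ofFinite ((EtCoh.stalk ξ).obj G)
    letI := Fintype.ofFinite ((EtCoh.stalk ξ).obj (cokernel (kernel.ι (p • 𝟙 G))))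
    have := Fintype.card_lt_of_surjective_not_injective π hsurj hninj
    rw [← Nat.card_eq_fintype_card, ← Nat.card_eq_fintype_card] at this
    change Nat.card _ < _ at this
    omega

theorem exists_cardLE {U : Scheme.{u}} [CompactSpace U] {G : EtCoh.Ab U} (hG : EtCoh.IsFiniteLocallyConstant G) :
    ∃ N, CardLE G N := by
  have key : ∀ x : U, ∃ N : ℕ, ∃ O : Set U, IsOpen O ∧ x ∈ O ∧ ∀ (Ω : Type u) [Field Ω] [IsSepClosed Ω]
      (ξ : Spec (CommRingCat.of Ω) ⟶ U), ξ default ∈ O →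
        Finite ((EtCoh.stalk ξ).obj G) ∧ Nat.card ((EtCoh.stalk ξ).obj G) ≤ N := by
    intro x
    obtain ⟨V₀, y, hy, M, _, hM, σ, hσ⟩ := loc_of_flc hG x
    haveI : AlgebraicGeometry.Etale V₀.hom := V₀.prop
    refine ⟨Nat.card M, Set.range V₀.hom, V₀.hom.isOpenMap.isOpen_range, ⟨y, hy⟩, ?_⟩
    rintro Ω _ _ ξ ⟨v, hv⟩
    have hc := Constr24.card_stalk_eq hσ v ξ (by rw [Constr24.range_eq_singleton]; exact congrArg _ hv.symm)
    exact ⟨Nat.finite_of_card_ne_zero (hc ▸ Nat.card_pos.ne'), hc.le⟩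
  choose N O hO hxO hN using key
  obtain ⟨t, ht⟩ := isCompact_univ.elim_finite_subcover O hO fun x _ => Set.mem_iUnion.2 ⟨x, hxO x⟩
  refine ⟨t.sup N, fun Ω _ _ ξ => ?_⟩
  obtain ⟨x, hx, hxξ⟩ := Set.mem_iUnion₂.1 (ht (Set.mem_univ (ξ default)))
  obtain ⟨h1, h2⟩ := hN x Ω ξ hxξ
  exact ⟨h1, h2.trans (Finset.le_sup hx)⟩

/-- Vanishing for constructible `p`-primary sheaves. -/
theorem van_constructible [Fact p.Prime] [IsNoetherian X] (hC : Cls p d C) (hX : C X) {F : EtCoh.Ab X}
    (hF : EtPBC.IsConstructible F) (hp : PTors p F) : Van d F := by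
  obtain ⟨n, E, ι, hE0, ⟨e⟩, hstep⟩ := Groth.Agent.S8561.result F hF
  suffices key : ∀ k : Fin (n + 1), PTors p (E k) → Van d (E k) from
    (key _ (hp.of_iso e.symm)).of_iso e
  intro k
  induction k using Fin.induction with
  | zero => exact fun _ => Van.of_isZero hE0
  | succ k ihk =>
    intro hk
    obtain ⟨U, W, j, hj, c, hc, G, π, hz, -, hG, hS⟩ := hstep k
    haveI := hj
    haveI := hc
    haveI : IsLocallyNoetherian U := LocallyOfFiniteType.isLocallyNoetherian j
    haveI : QuasiCompact j := inferInstance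
    haveI : CompactSpace U := QuasiCompact.compactSpace_of_compactSpace j
    haveI : CompactSpace W := QuasiCompact.compactSpace_of_compactSpace c
    haveI := hS.mono_f
    haveI := hS.epi_g
    haveI : EtShriek.JCont j := inferInstance
    refine Van.middle hS (ihk (PTors.of_mono (ι k) hk)) (van_of_finite hC hX j c G fun X' hX' j' _ _ _ => ?_)
    have hP : PTors p ((EtShriek.extZero j).obj ((EtCoh.push c).obj G)) := PTors.of_epi π hk
    have hG' : PTors p G := by
      haveI := isIso_counit_integral (f := c) G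
      haveI : IsIso ((EtShriek.extZeroAdj j).unit.app ((EtCoh.push c).obj G)) := NatIso.isIso_app_of_isIso _ _
      refine (((hP.pull j).of_iso ((EtStalk.restrPullIso j).app _).symm).of_iso
        (asIso ((EtShriek.extZeroAdj j).unit.app ((EtCoh.push c).obj G))).symm).pull c |>.of_iso
          (asIso ((EtCoh.pullPushAdj c).counit.app G))
    obtain ⟨N, hN⟩ := exists_cardLE hG
    exact van_pTors_aux hC N hX' j' G hG hG' hN

/-- Vanishing for `p`-primary torsion sheaves. -/
theorem van_primary [Fact p.Prime] [IsNoetherian X] (hC : Cls p d C) (hX : C X) {F : EtCoh.Ab X}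
    (hF : Dix.IsPrimaryTorsion p F) : Van d F := by
  have hp := PTors.of_primary hF
  have htor : EtCoh.IsTorsion F := fun U s x => by
    obtain ⟨V, g, hv, k, hk⟩ := hF U s x
    exact ⟨V, g, hv, isOfFinAddOrder_iff_nsmul_eq_zero.2 ⟨p ^ k, pow_pos (Fact.out : p.Prime).pos k, hk⟩⟩
  obtain ⟨J, _, _, D, c, hc, hD, ⟨e⟩⟩ := Constr24.exists_colimit_constructible htor
  intro q hq
  refine subsingleton_of_forall_eq 0 fun x => ?_
  let e' : colimit D ≅ F := (colimit.isColimit D).coconePointUniqueUpToIso hc ≪≫ e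
  obtain ⟨i, y, hy⟩ := (EtColim.surj_inj X q D).1 (Sheaf.H.map e'.inv q x)
  let f : D.obj i ⟶ F := colimit.ι D i ≫ e'.hom
  have hI : Van d (Abelian.image f) :=
    van_constructible hC hX (Constr24.isConstructible_quotient (Abelian.factorThruImage f) (hD i))
      (PTors.of_mono (Abelian.image.ι f) hp)
  have hx : x = Sheaf.H.map f q y := by
    rw [show f = colimit.ι D i ≫ e'.hom from rfl, Sheaf.H.map_comp_apply]
    refine Eq.trans ?_ (congrArg (Sheaf.H.map e'.hom q) hy).symm
    rw [← Sheaf.H.map_comp_apply, e'.inv_hom_id, Sheaf.H.map_id_apply]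
  rw [hx, ← Abelian.image.fac f, Sheaf.H.map_comp_apply, (hI q hq).elim (Sheaf.H.map _ q y) 0, map_zero]

end Groth.Agent.CdP3
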